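import Cfsg.Agent.H284.EP.TForm

/-!
# S3499-II UB1 (helper173): the line bound

From `EPT A Γ` we rebuild the extremely primitive action (`PG A Γ` on `Q ⧸ A`, `EPA`) and prove
`A.index ≤ 1 + r * (2 * (|A| / μ))` with `r` the number of the `M₀ = A ∩ A^x`, `0 < μ ≤ |M₀|`.
-/

set_option autoImplicit false
set_option linter.unusedSectionVars false

namespace Cfsg.Agent.H173.EP

open MulAction Subgroup Cfsg.Agent.H284

section Base

variable {G : Type*} [Group G] {Ω : Type*} [MulAction G Ω]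

/-- it is enough to check one point -/
theorem epa_of_base (htr : IsPretransitive G Ω) (a : Ω) (hmax : IsCoatom (stabilizer G a)) (hne : stabilizer G a ≠ ⊥)
    (two : ∀ b : Ω, b ≠ a → ∀ L : Subgroup G, stabilizer G a ⊓ stabilizer G b ≤ L → L ≤ stabilizer G a →
      L = stabilizer G a ⊓ stabilizer G b ∨ L = stabilizer G a) : EPA G Ω where
  tr := htr
  max := by
    intro c
    obtain ⟨g, rfl⟩ := htr.exists_smul_eq a c
    rw [stab_smul]
    refine ⟨fun h => hmax.1 ?_, fun L hL => ?_⟩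
    · rw [← cj_inv_cj g (stabilizer G a), h]
      rw [Subgroup.eq_top_iff']
      intro x
      rw [mem_cj]
      exact mem_top _
    · have h1 : stabilizer G a < cj g⁻¹ L := by
        refine lt_of_le_of_ne (cj_le_iff.1 hL.le) fun e => hL.ne ?_
        rw [e, cj_cj_inv]
      have h2 := hmax.2 _ h1
      rw [← cj_cj_inv g L, h2, Subgroup.eq_top_iff']
      intro x
      rw [mem_cj]
      exact mem_top _
  ne := by
    intro c
    obtain ⟨g, rfl⟩ := htr.exists_smul_eq a c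
    rw [stab_smul]
    exact fun h => hne (cj_eq_bot_iff.1 h)
  two := by
    intro c b hb L h1 h2
    obtain ⟨g, rfl⟩ := htr.exists_smul_eq a c
    have hb' : g⁻¹ • b ≠ a := fun h => hb (by rw [← h, smul_inv_smul])
    have hbb : b = g • (g⁻¹ • b) := (smul_inv_smul g b).symm
    have e1 : stabilizer G (g • a) = cj g (stabilizer G a) := stab_smul g a
    have e2 : stabilizer G b = cj g (stabilizer G (g⁻¹ • b)) := by rw [← stab_smul, smul_inv_smul]
    rw [e1, e2, ← cj_inf] at h1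
    rw [e1] at h2
    have k1 : stabilizer G a ⊓ stabilizer G (g⁻¹ • b) ≤ cj g⁻¹ L := cj_le_iff.1 h1
    have k2 : cj g⁻¹ L ≤ stabilizer G a := by
      rw [cj_le_iff, inv_inv]
      exact h2
    rcases two _ hb' _ k1 k2 with h3 | h3
    · left
      rw [e1, e2, ← cj_inf, ← h3, cj_cj_inv]
    · right
      rw [e1, ← h3, cj_cj_inv]

end Base


/-! ### the action of `Q` and `Γ` on `Q ⧸ A` -/

section Act

variable {Q : Type*} [Group Q] {A : Subgroup Q} {Γ : Subgroup (MulAut Q)}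

variable (A Γ) in
/-- the permutations `x A ↦ q σ(x) A` -/
def PG : Subgroup (Equiv.Perm (Q ⧸ A)) where
  carrier := {π | ∃ q : Q, ∃ σ ∈ Γ, ∀ x : Q, π (x : Q ⧸ A) = ((q * σ x : Q) : Q ⧸ A)}
  one_mem' := ⟨1, 1, one_mem _, fun x => by rw [one_mul]; rfl⟩
  mul_mem' := by
    rintro π₁ π₂ ⟨q₁, σ₁, h₁, e₁⟩ ⟨q₂, σ₂, h₂, e₂⟩
    refine ⟨q₁ * σ₁ q₂, σ₁ * σ₂, mul_mem h₁ h₂, fun x => ?_⟩
    rw [Equiv.Perm.mul_apply, e₂, e₁, map_mul, mul_assoc]
    rfl
  inv_mem' := by
    rintro π ⟨q, σ, h, e⟩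
    refine ⟨σ⁻¹ q⁻¹, σ⁻¹, inv_mem h, fun x => ?_⟩
    rw [Equiv.Perm.inv_eq_iff_eq, e, map_mul]
    have h1 : σ (σ⁻¹ q⁻¹) = q⁻¹ := MulAut.apply_inv_self _ _ _
    have h2 : σ (σ⁻¹ x) = x := MulAut.apply_inv_self _ _ _
    rw [h1, h2, mul_inv_cancel_left]

/-- left multiplications -/
def lm : Q →* PG A Γ where
  toFun q := ⟨MulAction.toPerm q, q, 1, one_mem _, fun _ => rfl⟩
  map_one' := by
    apply Subtype.ext
    apply Equiv.ext
    intro x
    exact one_smul Q x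
  map_mul' a b := by
    apply Subtype.ext
    apply Equiv.ext
    intro x
    exact mul_smul a b x

theorem lm_smul (q : Q) (x : Q ⧸ A) : (lm q : PG A Γ) • x = q • x := rfl

variable (h : EPT A Γ)

include h

/-- `σ ∈ Γ` as a permutation of `Q ⧸ A` -/
theorem exists_sg {σ : MulAut Q} (hσ : σ ∈ Γ) : ∃ s : PG A Γ, ∀ x : Q, s • (x : Q ⧸ A) = ((σ x : Q) : Q ⧸ A) := by
  let e : Equiv.Perm (Q ⧸ A) := Quotient.congr (ra := QuotientGroup.leftRel A) (rb := QuotientGroup.leftRel A) σ.toEquiv (by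
    intro x y
    rw [QuotientGroup.leftRel_apply, QuotientGroup.leftRel_apply]
    have : (σ.toEquiv x)⁻¹ * σ.toEquiv y = σ (x⁻¹ * y) := by
      rw [map_mul, map_inv]
      rfl
    rw [this, h.inv σ hσ])
  refine ⟨⟨e, 1, σ, hσ, fun x => ?_⟩, fun x => rfl⟩
  rw [one_mul]
  rfl

theorem stab_base {s : PG A Γ} (hs : s ∈ stabilizer (PG A Γ) ((1 : Q) : Q ⧸ A)) :
    ∃ σ ∈ Γ, ∀ x : Q, s • (x : Q ⧸ A) = ((σ x : Q) : Q ⧸ A) := by
  obtain ⟨π, q, σ, hσ, e⟩ := s
  have h1 : ((q * σ 1 : Q) : Q ⧸ A) = ((1 : Q) : Q ⧸ A) := by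
    rw [← e]
    exact hs
  rw [map_one, mul_one, QuotientGroup.eq, mul_one] at h1
  have hq : q ∈ A := (inv_mem_iff).1 h1
  refine ⟨MulAut.conj q * σ, mul_mem ((h.conj q).2 hq) hσ, fun x => ?_⟩
  have h2 : (⟨π, q, σ, hσ, e⟩ : PG A Γ) • (x : Q ⧸ A) = π x := rfl
  rw [h2, e, QuotientGroup.eq, MulAut.mul_apply, MulAut.conj_apply]
  have : (q * σ x)⁻¹ * (q * σ x * q⁻¹) = q⁻¹ := by group
  rw [this]
  exact inv_mem hq

theorem sg_mem {σ : MulAut Q} {s : PG A Γ} (hs : ∀ x : Q, s • (x : Q ⧸ A) = ((σ x : Q) : Q ⧸ A)) :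
    s ∈ stabilizer (PG A Γ) ((1 : Q) : Q ⧸ A) := by
  rw [mem_stabilizer_iff, hs, map_one]

omit h in
theorem sg_stab {σ : MulAut Q} {s : PG A Γ} (hs : ∀ x : Q, s • (x : Q ⧸ A) = ((σ x : Q) : Q ⧸ A)) (x : Q) :
    s ∈ stabilizer (PG A Γ) (x : Q ⧸ A) ↔ x⁻¹ * σ x ∈ A := by
  rw [mem_stabilizer_iff, hs, eq_comm, QuotientGroup.eq]

omit h in
theorem sg_unique {σ : MulAut Q} {s s' : PG A Γ} (hs : ∀ x : Q, s • (x : Q ⧸ A) = ((σ x : Q) : Q ⧸ A))
    (hs' : ∀ x : Q, s' • (x : Q ⧸ A) = ((σ x : Q) : Q ⧸ A)) : s = s' := by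
  apply FaithfulSMul.eq_of_smul_eq_smul (α := Q ⧸ A)
  intro y
  obtain ⟨x, rfl⟩ := QuotientGroup.mk_surjective y
  exact (hs x).trans (hs' x).symm

omit h in
theorem lm_stab (q x : Q) : (lm q : PG A Γ) ∈ stabilizer (PG A Γ) (x : Q ⧸ A) ↔ q ∈ cj x A := by
  rw [mem_stabilizer_iff, lm_smul, mem_cj]
  change ((q * x : Q) : Q ⧸ A) = (x : Q ⧸ A) ↔ _
  rw [eq_comm, QuotientGroup.eq, mul_assoc]

omit h in
theorem lm_stab_one (q : Q) : (lm q : PG A Γ) ∈ stabilizer (PG A Γ) ((1 : Q) : Q ⧸ A) ↔ q ∈ A := by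
  rw [lm_stab, cj_one]

omit h in
theorem comap_stab (x : Q) : (stabilizer (PG A Γ) ((1 : Q) : Q ⧸ A) ⊓ stabilizer (PG A Γ) (x : Q ⧸ A)).comap lm =
    A ⊓ cj x A := by
  ext q
  rw [Subgroup.mem_comap, mem_inf, mem_inf, lm_stab_one, lm_stab]

theorem epa (hs : IsSimpleGroup Q) : EPA (PG A Γ) (Q ⧸ A) := by
  have htr : IsPretransitive (PG A Γ) (Q ⧸ A) := by
    constructor
    intro x y
    obtain ⟨x, rfl⟩ := QuotientGroup.mk_surjective x
    obtain ⟨y, rfl⟩ := QuotientGroup.mk_surjective y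
    refine ⟨lm (y * x⁻¹), ?_⟩
    rw [lm_smul]
    change ((y * x⁻¹ * x : Q) : Q ⧸ A) = _
    rw [inv_mul_cancel_right]
  refine epa_of_base htr ((1 : Q) : Q ⧸ A) ⟨?_, ?_⟩ ?_ ?_
  · intro e
    apply h.max.1
    rw [Subgroup.eq_top_iff']
    intro q
    rw [← lm_stab_one (Γ := Γ), e]
    exact mem_top _
  · intro L hL
    obtain ⟨s, hsL, hs1⟩ := SetLike.exists_of_lt hL
    -- the left multiplications in `L`
    have h1 : A ≤ L.comap lm := by
      intro a ha
      exact hL.le ((lm_stab_one a).2 ha)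
    have h2 : L.comap lm ≠ A := by
      intro e2
      obtain ⟨π, q, σ, hσ, e⟩ := s
      obtain ⟨t, ht⟩ := exists_sg h hσ
      have h3 : (⟨π, q, σ, hσ, e⟩ : PG A Γ) = lm q * t := by
        apply FaithfulSMul.eq_of_smul_eq_smul (α := Q ⧸ A)
        intro y
        obtain ⟨x, rfl⟩ := QuotientGroup.mk_surjective y
        rw [mul_smul, ht, lm_smul]
        exact e x
      have ht1 := sg_mem h ht
      have h4 : (lm q : PG A Γ) ∈ L := by
        have h5 := mul_mem hsL (inv_mem (hL.le ht1))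
        rwa [h3, mul_inv_cancel_right] at h5
      have h6 : q ∈ L.comap lm := h4
      rw [e2, ← lm_stab_one (Γ := Γ)] at h6
      apply hs1
      rw [h3]
      exact mul_mem h6 ht1
    have h3 : L.comap lm = ⊤ := by
      by_contra hne
      exact h2 (((lt_or_eq_of_le h1).resolve_left fun hlt => hne (h.max.2 _ hlt)).symm)
    rw [Subgroup.eq_top_iff']
    intro s
    obtain ⟨π, q, σ, hσ, e⟩ := s
    obtain ⟨t, ht⟩ := exists_sg h hσ
    have h4 : (⟨π, q, σ, hσ, e⟩ : PG A Γ) = lm q * t := by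
      apply FaithfulSMul.eq_of_smul_eq_smul (α := Q ⧸ A)
      intro y
      obtain ⟨x, rfl⟩ := QuotientGroup.mk_surjective y
      rw [mul_smul, ht, lm_smul]
      exact e x
    rw [h4]
    refine mul_mem ?_ (hL.le (sg_mem h ht))
    have : q ∈ L.comap lm := by rw [h3]; exact mem_top _
    exact this
  · intro e
    -- the core of `A` is trivial
    obtain ⟨a, ha⟩ := (Subgroup.ne_bot_iff_exists_ne_one).1 h.ne
    have h1 : (lm (a : Q) : PG A Γ) = 1 := by
      rw [← Subgroup.mem_bot, ← e, lm_stab_one]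
      exact a.2
    have h2 : A.normalCore = ⊥ ∨ A.normalCore = ⊤ := (Subgroup.normalCore_normal A).eq_bot_or_eq_top
    rcases h2 with h2 | h2
    · apply ha
      have h3 : (a : Q) ∈ A.normalCore := by
        intro x
        have h4 : (lm (a : Q) : PG A Γ) ∈ stabilizer (PG A Γ) ((x⁻¹ : Q) : Q ⧸ A) := by rw [h1]; exact one_mem _
        rw [lm_stab, mem_cj, inv_inv] at h4
        exact h4
      rw [h2, Subgroup.mem_bot] at h3
      exact Subtype.ext h3
    · apply h.max.1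
      rw [eq_top_iff, ← h2]
      exact Subgroup.normalCore_le A
  · intro b hb L h1 h2
    obtain ⟨x, rfl⟩ := QuotientGroup.mk_surjective b
    have hx : x ∉ A := by
      intro hx
      apply hb
      rw [eq_comm, QuotientGroup.eq, inv_one, one_mul]
      exact hx
    -- the preimage in `Γ`
    let L' : Subgroup (MulAut Q) :=
      { carrier := {σ | σ ∈ Γ ∧ ∀ s : PG A Γ, (∀ x : Q, s • (x : Q ⧸ A) = ((σ x : Q) : Q ⧸ A)) → s ∈ L}
        one_mem' := by
          refine ⟨one_mem _, fun s hs' => ?_⟩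
          have : s = 1 := sg_unique hs' (σ := 1) fun x => by rw [one_smul]; rfl
          rw [this]
          exact one_mem _
        mul_mem' := by
          rintro σ τ ⟨hσ, hσ'⟩ ⟨hτ, hτ'⟩
          refine ⟨mul_mem hσ hτ, fun s hs' => ?_⟩
          obtain ⟨u, hu⟩ := exists_sg h hσ
          obtain ⟨v, hv⟩ := exists_sg h hτ
          have : s = u * v := by
            apply sg_unique hs'
            intro x
            rw [mul_smul, hv, hu]
            rfl
          rw [this]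
          exact mul_mem (hσ' u hu) (hτ' v hv)
        inv_mem' := by
          rintro σ ⟨hσ, hσ'⟩
          refine ⟨inv_mem hσ, fun s hs' => ?_⟩
          obtain ⟨u, hu⟩ := exists_sg h hσ
          have : s = u⁻¹ := by
            apply sg_unique hs'
            intro x
            rw [inv_smul_eq_iff, hu]
            have : σ (σ⁻¹ x) = x := MulAut.apply_inv_self _ _ _
            rw [this]
          rw [this]
          exact inv_mem (hσ' u hu) }
    have h3 := h.two x hx L' (fun σ hσ => hσ.1) (by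
      intro σ hσ hxσ
      refine ⟨hσ, fun s hs' => h1 ⟨sg_mem h hs', (sg_stab hs' x).2 hxσ⟩⟩)
    rcases h3 with h3 | h3
    · right
      apply le_antisymm h2
      intro s hs'
      obtain ⟨σ, hσ, e⟩ := stab_base h hs'
      rw [← h3] at hσ
      exact hσ.2 s e
    · left
      apply le_antisymm _ h1
      intro s hs'
      have h4 := h2 hs'
      obtain ⟨σ, hσ, e⟩ := stab_base h h4
      refine ⟨h4, (sg_stab e x).2 (h3 σ ⟨hσ, fun s' hs'' => ?_⟩)⟩
      rw [sg_unique hs'' e]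
      exact hs'

end Act


/-! ### the line bound for actions -/

section Line

variable {G : Type*} [Group G] {Ω : Type*} [MulAction G Ω]

/-- (LL) `|fix(G_ab)| ≤ 2 D` -/
theorem ncard_line_le [Finite G] [Finite Ω] [FaithfulSMul G Ω] (h : EPA G Ω) {D : ℕ}
    (hD : ∀ p c : Ω, c ≠ p → Nat.card (stabilizer G p) ≤ D * Nat.card (stabilizer G p ⊓ stabilizer G c : Subgroup G))
    {a b : Ω} (hab : b ≠ a) (hne : stabilizer G a ⊓ stabilizer G b ≠ ⊥) :
    {c : Ω | ∀ m ∈ stabilizer G a ⊓ stabilizer G b, m • c = c}.ncard ≤ 2 * D := by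
  classical
  have := Fintype.ofFinite Ω
  have := Fintype.ofFinite G
  obtain ⟨m, hm⟩ := (Subgroup.ne_bot_iff_exists_ne_one).1 hne
  obtain ⟨p, hp⟩ : ∃ p : Ω, (m : G) • p ≠ p := by
    by_contra hcon
    push Not at hcon
    apply hm
    apply Subtype.ext
    apply FaithfulSMul.eq_of_smul_eq_smul (α := Ω)
    intro c
    rw [hcon c]
    exact (one_smul G c).symm
  set l : Finset Ω := Finset.univ.filter fun c : Ω => ∀ m ∈ stabilizer G a ⊓ stabilizer G b, m • c = c with hl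
  have hpl : ∀ c ∈ l, c ≠ p := by
    intro c hc e
    rw [hl, Finset.mem_filter] at hc
    exact hp (e ▸ hc.2 m m.2)
  have hle : ∀ c ∈ l, stabilizer G a ⊓ stabilizer G b ≤ stabilizer G c := by
    intro c hc
    rw [hl, Finset.mem_filter] at hc
    exact fun g hg => hc.2 g hg
  -- the sets `G_pc \ K₀`
  set K₀ : Subgroup G := stabilizer G p ⊓ (stabilizer G a ⊓ stabilizer G b) with hK₀
  let W : Ω → Finset G := fun c => Finset.univ.filter fun g : G => g ∈ stabilizer G p ⊓ stabilizer G c ∧ g ∉ K₀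
  have hdis : (l : Set Ω).PairwiseDisjoint W := by
    intro c hc d hd hcd
    rw [Function.onFun, Finset.disjoint_left]
    intro g hg1 hg2
    simp only [W, Finset.mem_filter, Finset.mem_univ, true_and] at hg1 hg2
    apply hg1.2
    refine ⟨(mem_inf.1 hg1.1).1, ?_⟩
    rw [← h.line_eq hab hcd (hle c hc) (hle d hd)]
    exact ⟨(mem_inf.1 hg1.1).2, (mem_inf.1 hg2.1).2⟩
  have hcardW : ∀ c ∈ l, Nat.card (stabilizer G p) ≤ 2 * D * (W c).card := by
    intro c hc
    have h1 := hD p c (hpl c hc)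
    -- `K₀` is a proper subgroup of `G_pc`
    have hlt : K₀ < stabilizer G p ⊓ stabilizer G c := by
      refine lt_of_le_of_ne (fun g hg => ⟨hg.1, hle c hc hg.2⟩) ?_
      intro e
      -- another point of the line
      obtain ⟨d, hd, hdc⟩ : ∃ d ∈ l, d ≠ c := by
        by_cases hca : c = a
        · refine ⟨b, ?_, by rw [hca]; exact hab⟩
          rw [hl, Finset.mem_filter]
          exact ⟨Finset.mem_univ _, fun g hg => hg.2⟩
        · refine ⟨a, ?_, Ne.symm hca⟩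
          rw [hl, Finset.mem_filter]
          exact ⟨Finset.mem_univ _, fun g hg => hg.1⟩
      have h2 : stabilizer G p ⊓ stabilizer G c ≤ stabilizer G d := by
        rw [← e]
        exact fun g hg => hle d hd hg.2
      have h3 := h.line_eq (a := p) (b := c) (c := c) (d := d) (hpl c hc) (Ne.symm hdc) inf_le_right h2
      have h4 := h.line_eq hab (Ne.symm hdc) (hle c hc) (hle d hd)
      rw [h3] at h4
      exact hp ((mem_inf.1 (h4.symm.le m.2 : (m : G) ∈ stabilizer G p ⊓ stabilizer G c)).1)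
    have h2 : Nat.card K₀ * 2 ≤ Nat.card (stabilizer G p ⊓ stabilizer G c : Subgroup G) := by
      have h3 : (K₀.subgroupOf (stabilizer G p ⊓ stabilizer G c)).index ≠ 1 := by
        rw [Ne, Subgroup.index_eq_one, Subgroup.subgroupOf_eq_top]
        exact fun h' => hlt.not_ge h'
      have h4 := Subgroup.card_mul_index (K₀.subgroupOf (stabilizer G p ⊓ stabilizer G c))
      have h5 : Nat.card (K₀.subgroupOf (stabilizer G p ⊓ stabilizer G c)) = Nat.card K₀ :=
        Nat.card_congr (Subgroup.subgroupOfEquivOfLe hlt.le).toEquiv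
      rw [h5] at h4
      rw [← h4]
      apply Nat.mul_le_mul_left
      have h6 : (K₀.subgroupOf (stabilizer G p ⊓ stabilizer G c)).index ≠ 0 := Subgroup.index_ne_zero_of_finite
      omega
    have h3 : (W c).card + Nat.card K₀ = Nat.card (stabilizer G p ⊓ stabilizer G c : Subgroup G) := by
      have e1 : Nat.card K₀ = (Finset.univ.filter fun g : G => g ∈ stabilizer G p ⊓ stabilizer G c ∧ g ∈ K₀).card := by
        rw [Nat.card_eq_fintype_card, Fintype.card_subtype]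
        congr 1
        ext g
        simp only [Finset.mem_filter, Finset.mem_univ, true_and]
        exact ⟨fun hg => ⟨hlt.le hg, hg⟩, fun hg => hg.2⟩
      have e2 : Nat.card (stabilizer G p ⊓ stabilizer G c : Subgroup G) =
          (Finset.univ.filter fun g : G => g ∈ stabilizer G p ⊓ stabilizer G c).card := by
        rw [Nat.card_eq_fintype_card, Fintype.card_subtype]
      rw [e1, e2, add_comm, ← Finset.card_filter_add_card_filter_not (s := Finset.univ.filter fun g : G =>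
        g ∈ stabilizer G p ⊓ stabilizer G c) (p := fun g => g ∈ K₀), Finset.filter_filter, Finset.filter_filter]
    have h4 : Nat.card (stabilizer G p ⊓ stabilizer G c : Subgroup G) ≤ 2 * (W c).card := by omega
    calc Nat.card (stabilizer G p) ≤ D * Nat.card (stabilizer G p ⊓ stabilizer G c : Subgroup G) := h1
      _ ≤ D * (2 * (W c).card) := Nat.mul_le_mul_left _ h4
      _ = 2 * D * (W c).card := by ring
  have hsum : l.card * Nat.card (stabilizer G p) ≤ 2 * D * Nat.card (stabilizer G p) := by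
    calc l.card * Nat.card (stabilizer G p) = ∑ _c ∈ l, Nat.card (stabilizer G p) := by
          rw [Finset.sum_const, smul_eq_mul]
      _ ≤ ∑ c ∈ l, 2 * D * (W c).card := Finset.sum_le_sum hcardW
      _ = 2 * D * ∑ c ∈ l, (W c).card := by rw [Finset.mul_sum]
      _ = 2 * D * (l.biUnion W).card := by rw [Finset.card_biUnion hdis]
      _ ≤ 2 * D * Nat.card (stabilizer G p) := by
          apply Nat.mul_le_mul_left
          rw [Nat.card_eq_fintype_card, Fintype.card_subtype]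
          apply Finset.card_le_card
          intro g hg
          rw [Finset.mem_biUnion] at hg
          obtain ⟨c, -, hg⟩ := hg
          simp only [W, Finset.mem_filter, Finset.mem_univ, true_and] at hg ⊢
          exact (mem_inf.1 hg.1).1
  have hpos : 0 < Nat.card (stabilizer G p) := Nat.card_pos
  have h5 := Nat.le_of_mul_le_mul_right hsum hpos
  rw [Set.ncard_eq_toFinset_card']
  refine le_trans (le_of_eq ?_) h5
  congr 1
  ext c
  simp [hl]

/-- `|Ω| ≤ 1 + r * (2 D)` -/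
theorem card_le_line [Finite G] [Finite Ω] [FaithfulSMul G Ω] (h : EPA G Ω) {D : ℕ}
    (hD : ∀ p c : Ω, c ≠ p → Nat.card (stabilizer G p) ≤ D * Nat.card (stabilizer G p ⊓ stabilizer G c : Subgroup G))
    (a : Ω) (hne : ∀ b, b ≠ a → stabilizer G a ⊓ stabilizer G b ≠ ⊥) :
    Nat.card Ω ≤ 1 + (EPA.lines G a).ncard * (2 * D) := by
  classical
  have := Fintype.ofFinite Ω
  have hfin : (EPA.lines G a).Finite := Set.toFinite _
  have h1 : (Finset.univ.erase a : Finset Ω).card ≤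
      ∑ M ∈ hfin.toFinset, ((Finset.univ.filter fun c : Ω => ∀ m ∈ M, m • c = c).erase a).card := by
    refine le_trans (Finset.card_le_card ?_) Finset.card_biUnion_le
    intro b hb
    rw [Finset.mem_erase] at hb
    rw [Finset.mem_biUnion]
    refine ⟨stabilizer G a ⊓ stabilizer G b, ?_, ?_⟩
    · rw [Set.Finite.mem_toFinset]
      exact ⟨b, hb.1, rfl⟩
    · rw [Finset.mem_erase, Finset.mem_filter]
      exact ⟨hb.1, Finset.mem_univ _, fun m hm => (mem_inf.1 hm).2⟩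
  have h2 : ∀ M ∈ hfin.toFinset, ((Finset.univ.filter fun c : Ω => ∀ m ∈ M, m • c = c).erase a).card ≤ 2 * D := by
    intro M hM
    rw [Set.Finite.mem_toFinset] at hM
    obtain ⟨b, hb, rfl⟩ := hM
    refine le_trans (Finset.card_le_card (Finset.erase_subset _ _)) ?_
    have h3 := ncard_line_le h hD hb (hne b hb)
    rw [Set.ncard_eq_toFinset_card'] at h3
    refine le_trans (le_of_eq ?_) h3
    congr 1
    ext c
    simp
  have h4 := h1.trans (Finset.sum_le_card_nsmul _ _ _ h2)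
  rw [Finset.card_erase_of_mem (Finset.mem_univ a), Finset.card_univ, smul_eq_mul,
    ← Set.ncard_eq_toFinset_card _ hfin] at h4
  rw [Nat.card_eq_fintype_card]
  have h7 : 0 < Fintype.card Ω := Fintype.card_pos_iff.2 ⟨a⟩
  omega

end Line


/-! ### UB1 -/

section UB

variable {Q : Type*} [Group Q] {A : Subgroup Q} {Γ : Subgroup (MulAut Q)}

theorem inf_inv (h : EPT A Γ) {x : Q} {σ : MulAut Q} (hσ : σ ∈ Γ) (hx : x⁻¹ * σ x ∈ A) {k : Q}
    (hk : k ∈ A ⊓ cj x A) : σ k ∈ A ⊓ cj x A := by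
  refine mem_inf.2 ⟨(h.inv σ hσ k).2 hk.1, ?_⟩
  have h1 := mem_cj.1 hk.2
  rw [mem_cj]
  have e : x⁻¹ * σ k * x = x⁻¹ * σ x * σ (x⁻¹ * k * x) * (x⁻¹ * σ x)⁻¹ := by
    rw [map_mul, map_mul, map_inv]
    group
  rw [e]
  exact mul_mem (mul_mem hx ((h.inv σ hσ _).2 h1)) (inv_mem hx)

/-- the stabiliser in `Γ` of `xA` is determined by `A ∩ A^x` -/
theorem stab_of_eq (h : EPT A Γ) {x y : Q} (hy : y ∉ A) (e : A ⊓ cj x A = A ⊓ cj y A)
    {σ : MulAut Q} (hσ : σ ∈ Γ) (hxσ : x⁻¹ * σ x ∈ A) : y⁻¹ * σ y ∈ A := by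
  refine h.norm y hy (A ⊓ cj y A) le_rfl (fun τ hτ hyτ k hk => inf_inv h hτ hyτ hk) (h.M0 y hy) σ hσ ?_
  intro k hk
  rw [← e] at hk ⊢
  exact inf_inv h hσ hxσ hk

theorem ncard_lines_le [Finite Q] (h : EPT A Γ) :
    (EPA.lines (PG A Γ) ((1 : Q) : Q ⧸ A)).ncard ≤ {M : Subgroup Q | ∃ x, x ∉ A ∧ M = A ⊓ cj x A}.ncard := by
  have hmem : ∀ b : Q ⧸ A, b ≠ ((1 : Q) : Q ⧸ A) → ∃ x, x ∉ A ∧ b = (x : Q ⧸ A) := by
    intro b hb
    obtain ⟨x, rfl⟩ := QuotientGroup.mk_surjective b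
    refine ⟨x, fun hx => hb ?_, rfl⟩
    rw [eq_comm, QuotientGroup.eq, inv_one, one_mul]
    exact hx
  refine Set.ncard_le_ncard_of_injOn (fun M => M.comap lm) ?_ ?_ (Set.toFinite _)
  · rintro _ ⟨b, hb, rfl⟩
    obtain ⟨x, hx, rfl⟩ := hmem b hb
    exact ⟨x, hx, comap_stab x⟩
  · rintro _ ⟨b, hb, rfl⟩ _ ⟨c, hc, rfl⟩ e
    obtain ⟨x, hx, rfl⟩ := hmem b hb
    obtain ⟨y, hy, rfl⟩ := hmem c hc
    have e' : A ⊓ cj x A = A ⊓ cj y A := by
      rw [← comap_stab (Γ := Γ) x, ← comap_stab (Γ := Γ) y]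
      exact e
    have key : ∀ {x y : Q}, y ∉ A → A ⊓ cj x A = A ⊓ cj y A →
        stabilizer (PG A Γ) ((1 : Q) : Q ⧸ A) ⊓ stabilizer (PG A Γ) (x : Q ⧸ A) ≤
        stabilizer (PG A Γ) ((1 : Q) : Q ⧸ A) ⊓ stabilizer (PG A Γ) (y : Q ⧸ A) := by
      intro x y hy e s hs
      obtain ⟨σ, hσ, hs1⟩ := stab_base h hs.1
      exact ⟨hs.1, (sg_stab hs1 y).2 (stab_of_eq h hy e hσ ((sg_stab hs1 x).1 hs.2))⟩
    exact le_antisymm (key hy e') (key hx e'.symm)

theorem index_le_div [Finite Q] {μ : ℕ} (hμ : 0 < μ) {x : Q} (hx : μ ≤ Nat.card (A ⊓ cj x A : Subgroup Q)) :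
    ((cj x A).subgroupOf A).index ≤ Nat.card A / μ := by
  rw [Nat.le_div_iff_mul_le hμ]
  have h1 := Subgroup.card_mul_index ((cj x A).subgroupOf A)
  have h2 : Nat.card ((cj x A).subgroupOf A) = Nat.card (A ⊓ cj x A : Subgroup Q) := by
    rw [← Subgroup.inf_subgroupOf_left]
    exact Nat.card_congr (Subgroup.subgroupOfEquivOfLe inf_le_left).toEquiv
  rw [h2] at h1
  calc ((cj x A).subgroupOf A).index * μ ≤ ((cj x A).subgroupOf A).index * Nat.card (A ⊓ cj x A : Subgroup Q) :=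
        Nat.mul_le_mul_left _ hx
    _ = Nat.card A := by rw [mul_comm, h1]

theorem card_stab_le [Finite Q] (hs : IsSimpleGroup Q) (h : EPT A Γ) {μ : ℕ} (hμ : 0 < μ)
    (hmu : ∀ x, x ∉ A → μ ≤ Nat.card (A ⊓ cj x A : Subgroup Q)) (p c : Q ⧸ A) (hcp : c ≠ p) :
    Nat.card (stabilizer (PG A Γ) p) ≤ Nat.card A / μ *
      Nat.card (stabilizer (PG A Γ) p ⊓ stabilizer (PG A Γ) c : Subgroup (PG A Γ)) := by
  have hE := epa h hs
  -- the base point
  have base : ∀ b : Q ⧸ A, b ≠ ((1 : Q) : Q ⧸ A) → Nat.card (stabilizer (PG A Γ) ((1 : Q) : Q ⧸ A)) ≤ Nat.card A / μ *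
      Nat.card (stabilizer (PG A Γ) ((1 : Q) : Q ⧸ A) ⊓ stabilizer (PG A Γ) b : Subgroup (PG A Γ)) := by
    intro b hb
    obtain ⟨x, rfl⟩ := QuotientGroup.mk_surjective b
    have hx : x ∉ A := by
      intro hx
      apply hb
      rw [eq_comm, QuotientGroup.eq, inv_one, one_mul]
      exact hx
    have horb : ∀ g ∈ stabilizer (PG A Γ) ((1 : Q) : Q ⧸ A), ∃ k ∈ (A.map (lm (A := A) (Γ := Γ)) : Subgroup (PG A Γ)),
        g • (x : Q ⧸ A) = k • (x : Q ⧸ A) := by
      intro g hg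
      refine hE.orbit_of_normal hb ?_ ?_ ?_ hg
      · rintro _ ⟨a, ha, rfl⟩
        exact (lm_stab_one a).2 ha
      · rintro s hs' _ ⟨a, ha, rfl⟩
        obtain ⟨σ, hσ, e⟩ := stab_base h hs'
        refine ⟨σ a, (h.inv σ hσ a).2 ha, ?_⟩
        apply FaithfulSMul.eq_of_smul_eq_smul (α := Q ⧸ A)
        intro y
        obtain ⟨z, hz⟩ := QuotientGroup.mk_surjective (s⁻¹ • y)
        have hy : y = s • (z : Q ⧸ A) := by
          rw [hz, smul_inv_smul]
        rw [hy, mul_smul, mul_smul, inv_smul_smul, lm_smul, lm_smul, e]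
        change ((σ a * σ z : Q) : Q ⧸ A) = s • ((a * z : Q) : Q ⧸ A)
        rw [e, map_mul]
      · intro hle
        apply h.ne
        refine h.F1 x hx A le_rfl (fun σ hσ k hk => (h.inv σ hσ k).2 hk) ?_
        intro a ha
        exact (lm_stab a x).1 (hle ⟨a, ha, rfl⟩)
    let φ : (A ⧸ (cj x A).subgroupOf A) × (stabilizer (PG A Γ) ((1 : Q) : Q ⧸ A) ⊓
        stabilizer (PG A Γ) (x : Q ⧸ A) : Subgroup (PG A Γ)) → stabilizer (PG A Γ) ((1 : Q) : Q ⧸ A) :=
      fun q => ⟨lm ((q.1.out : A) : Q) * (q.2 : PG A Γ), mul_mem ((lm_stab_one _).2 (q.1.out : A).2) q.2.2.1⟩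
    have hφ : Function.Surjective φ := by
      rintro ⟨g, hg⟩
      obtain ⟨_, ⟨a, ha, rfl⟩, e⟩ := horb g hg
      let q : A ⧸ (cj x A).subgroupOf A := ((⟨a, ha⟩ : A) : A ⧸ (cj x A).subgroupOf A)
      have hq : ((q.out : A) : A ⧸ (cj x A).subgroupOf A) = ((⟨a, ha⟩ : A) : A ⧸ (cj x A).subgroupOf A) :=
        Quotient.out_eq' q
      rw [QuotientGroup.eq, Subgroup.mem_subgroupOf] at hq
      have hq' : ((q.out : A) : Q)⁻¹ * a ∈ cj x A := hq
      have h1 : (lm ((q.out : A) : Q) : PG A Γ)⁻¹ * g ∈ stabilizer (PG A Γ) ((1 : Q) : Q ⧸ A) ⊓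
          stabilizer (PG A Γ) (x : Q ⧸ A) := by
        refine mem_inf.2 ⟨mul_mem (inv_mem ((lm_stab_one _).2 (q.out : A).2)) hg, ?_⟩
        rw [← lm_stab (Γ := Γ), map_mul, map_inv, mem_stabilizer_iff, mul_smul] at hq'
        rw [mem_stabilizer_iff, mul_smul, e]
        exact hq'
      refine ⟨(q, ⟨_, h1⟩), ?_⟩
      apply Subtype.ext
      change lm ((q.out : A) : Q) * ((lm ((q.out : A) : Q) : PG A Γ)⁻¹ * g) = g
      rw [mul_inv_cancel_left]
    have h1 := Nat.card_le_card_of_surjective φ hφ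
    rw [Nat.card_prod] at h1
    refine h1.trans (Nat.mul_le_mul_right _ ?_)
    exact index_le_div hμ (hmu x hx)
  obtain ⟨g, rfl⟩ := hE.exists_smul ((1 : Q) : Q ⧸ A) p
  have h1 : g⁻¹ • c ≠ ((1 : Q) : Q ⧸ A) := by
    intro e
    apply hcp
    rw [← e, smul_inv_smul]
  have h2 := base _ h1
  have h3 : stabilizer (PG A Γ) c = cj g (stabilizer (PG A Γ) (g⁻¹ • c)) := by rw [← stab_smul, smul_inv_smul]
  rw [h3, stab_smul, ← cj_inf, card_cj, card_cj]
  exact h2

/-- **UB1 (line bound)** -/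
theorem ub1 [Finite Q] (hs : IsSimpleGroup Q) (h : EPT A Γ) {μ : ℕ} (hμ : 0 < μ)
    (hmu : ∀ x, x ∉ A → μ ≤ Nat.card (A ⊓ cj x A : Subgroup Q)) :
    A.index ≤ 1 + {M : Subgroup Q | ∃ x, x ∉ A ∧ M = A ⊓ cj x A}.ncard * (2 * (Nat.card A / μ)) := by
  have hE := epa h hs
  have h1 := card_le_line hE (D := Nat.card A / μ) (card_stab_le hs h hμ hmu) ((1 : Q) : Q ⧸ A) (by
    intro b hb e
    obtain ⟨x, rfl⟩ := QuotientGroup.mk_surjective b
    have hx : x ∉ A := by
      intro hx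
      apply hb
      rw [eq_comm, QuotientGroup.eq, inv_one, one_mul]
      exact hx
    apply h.M0 x hx
    rw [← comap_stab (Γ := Γ), e, Subgroup.eq_bot_iff_forall]
    intro q hq
    -- `lm` is injective
    have hq1 : (lm q : PG A Γ) = 1 := hq
    have h2 : A.normalCore = ⊥ := by
      rcases (Subgroup.normalCore_normal A).eq_bot_or_eq_top with h3 | h3
      · exact h3
      · exfalso
        apply h.max.1
        rw [eq_top_iff, ← h3]
        exact Subgroup.normalCore_le A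
    rw [← Subgroup.mem_bot, ← h2]
    intro y
    have h4 : (lm q : PG A Γ) ∈ stabilizer (PG A Γ) ((y⁻¹ : Q) : Q ⧸ A) := by rw [hq1]; exact one_mem _
    rw [lm_stab, mem_cj, inv_inv] at h4
    exact h4)
  refine h1.trans ?_
  apply Nat.add_le_add_left
  exact Nat.mul_le_mul_right _ (ncard_lines_le h)

/-- the number of the `M₀` in terms of `A`-classes -/
theorem ncard_le_classes [Finite Q] {μ : ℕ} (hμ : 0 < μ)
    (hmu : ∀ x, x ∉ A → μ ≤ Nat.card (A ⊓ cj x A : Subgroup Q)) (R : Set (Subgroup Q))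
    (hR : ∀ x, x ∉ A → ∃ N ∈ R, ∃ a ∈ A, A ⊓ cj x A = cj a N) :
    {M : Subgroup Q | ∃ x, x ∉ A ∧ M = A ⊓ cj x A}.ncard ≤ R.ncard * (Nat.card A / μ) := by
  classical
  have hfin : R.Finite := Set.toFinite _
  have hcl : ∀ N : Subgroup Q, {M : Subgroup Q | (∃ x, x ∉ A ∧ M = A ⊓ cj x A) ∧ ∃ a ∈ A, M = cj a N}.ncard ≤
      Nat.card A / μ := by
    intro N
    by_cases hN : ∃ x, x ∉ A ∧ ∃ a ∈ A, A ⊓ cj x A = cj a N
    · obtain ⟨x, hx, a, ha, e⟩ := hN
      -- `N = A ⊓ cj (a⁻¹ x) A`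
      have hN' : N = A ⊓ cj (a⁻¹ * x) A := by
        rw [cj_mul, ← cj_eq_self (x := a⁻¹) (H := A) (inv_mem ha)]
        rw [cj_eq_self (x := a⁻¹) (H := A) (inv_mem ha)]
        have e2 : cj a⁻¹ (A ⊓ cj x A) = A ⊓ cj a⁻¹ (cj x A) := by
          rw [cj_inf, cj_eq_self (inv_mem ha)]
        rw [← e2, e, cj_inv_cj]
      have hax : a⁻¹ * x ∉ A := fun h' => hx (by
        have := mul_mem ha h'
        rwa [mul_inv_cancel_left] at this)
      have hle := index_le_div (A := A) hμ (hmu _ hax)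
      refine le_trans ?_ hle
      rw [Subgroup.index]
      let ψ : A ⧸ (cj (a⁻¹ * x) A).subgroupOf A → Subgroup Q := fun q => cj ((q.out : A) : Q) N
      have hsub : {M : Subgroup Q | (∃ x, x ∉ A ∧ M = A ⊓ cj x A) ∧ ∃ a ∈ A, M = cj a N} ⊆ Set.range ψ := by
        rintro M ⟨_, b, hb, rfl⟩
        refine ⟨((⟨b, hb⟩ : A) : A ⧸ (cj (a⁻¹ * x) A).subgroupOf A), ?_⟩
        let q : A ⧸ (cj (a⁻¹ * x) A).subgroupOf A := ((⟨b, hb⟩ : A) : A ⧸ (cj (a⁻¹ * x) A).subgroupOf A)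
        have hq : ((q.out : A) : A ⧸ (cj (a⁻¹ * x) A).subgroupOf A) = ((⟨b, hb⟩ : A) : _) := Quotient.out_eq' q
        rw [QuotientGroup.eq, Subgroup.mem_subgroupOf] at hq
        have hq' : ((q.out : A) : Q)⁻¹ * b ∈ N := by
          rw [hN']
          exact mem_inf.2 ⟨A.mul_mem (A.inv_mem (q.out : A).2) hb, hq⟩
        change cj ((q.out : A) : Q) N = cj b N
        calc cj ((q.out : A) : Q) N = cj ((q.out : A) : Q) (cj (((q.out : A) : Q)⁻¹ * b) N) := by rw [cj_eq_self hq']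
          _ = cj b N := by rw [← cj_mul, mul_inv_cancel_left]
      refine (Set.ncard_le_ncard hsub (Set.toFinite _)).trans ?_
      rw [← Nat.card_coe_set_eq]
      exact Nat.card_le_card_of_surjective (Set.rangeFactorization ψ) Set.rangeFactorization_surjective
    · have : {M : Subgroup Q | (∃ x, x ∉ A ∧ M = A ⊓ cj x A) ∧ ∃ a ∈ A, M = cj a N} = ∅ := by
        rw [Set.eq_empty_iff_forall_notMem]
        rintro M ⟨⟨x, hx, rfl⟩, a, ha, e⟩
        exact hN ⟨x, hx, a, ha, e⟩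
      rw [this, Set.ncard_empty]
      exact Nat.zero_le _
  have hsub : {M : Subgroup Q | ∃ x, x ∉ A ∧ M = A ⊓ cj x A} ⊆
      ⋃ N ∈ hfin.toFinset, {M : Subgroup Q | (∃ x, x ∉ A ∧ M = A ⊓ cj x A) ∧ ∃ a ∈ A, M = cj a N} := by
    rintro M ⟨x, hx, rfl⟩
    obtain ⟨N, hN, a, ha, e⟩ := hR x hx
    rw [Set.mem_iUnion₂]
    exact ⟨N, by rw [Set.Finite.mem_toFinset]; exact hN, ⟨x, hx, rfl⟩, a, ha, e⟩
  refine (Set.ncard_le_ncard hsub (Set.toFinite _)).trans ?_
  refine (Finset.set_ncard_biUnion_le _ _).trans ?_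
  refine (Finset.sum_le_card_nsmul _ _ _ (fun N _ => hcl N)).trans ?_
  rw [smul_eq_mul, ← Set.ncard_eq_toFinset_card _ hfin]

/-- **UB1 with classes** -/
theorem ub1_classes [Finite Q] (hs : IsSimpleGroup Q) (h : EPT A Γ) {μ : ℕ} (hμ : 0 < μ)
    (hmu : ∀ x, x ∉ A → μ ≤ Nat.card (A ⊓ cj x A : Subgroup Q)) (R : Set (Subgroup Q))
    (hR : ∀ x, x ∉ A → ∃ N ∈ R, ∃ a ∈ A, A ⊓ cj x A = cj a N) {k : ℕ} (hk : R.ncard ≤ k) :
    A.index ≤ 1 + k * (Nat.card A / μ) * (2 * (Nat.card A / μ)) := by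
  refine (ub1 hs h hμ hmu).trans ?_
  apply Nat.add_le_add_left
  apply Nat.mul_le_mul_right
  exact (ncard_le_classes hμ hmu R hR).trans (Nat.mul_le_mul_right _ hk)

end UB

end Cfsg.Agent.H173.EP
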